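import Cfsg.Agent.FP3.Aff.Main
import Cfsg.Agent.S0205

/-!
# S3519, the affine box from `Gen` (helper93)
-/

set_option autoImplicit false

namespace Cfsg.Agent.FP3

theorem hasInv : HasInv := by
  intro T _ _ _ hc
  rcases Nat.even_or_odd (Nat.card T) with h | h
  · obtain ⟨x, hx⟩ := exists_prime_orderOf_dvd_card' (G := T) 2 h.two_dvd
    refine ⟨x, fun h1 => ?_, by rw [← hx, pow_orderOf_eq_one]⟩
    rw [h1, orderOf_one] at hx
    exact absurd hx (by decide)
  · have := Cfsg.Agent.S0205.result h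
    exact absurd ⟨⟨IsSimpleGroup.comm_iff_isSolvable.2 this⟩⟩ hc

/-- the affine box -/
theorem aff (hG : Gen) : Aff := aff_of hG hasInv

end Cfsg.Agent.FP3
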