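import Cfsg.Agent.FP3.Aff.Scott

/-!
# S3519, affine box: gluing over irreducible constituents and over cycles (helper93)
-/

set_option autoImplicit false

namespace Cfsg.Agent.FP3

open Module

section glue

variable {k V H : Type*} [Field k] [AddCommGroup V] [Module k V] [Group H]

/-- invariant under the subgroup `N` -/
def NInv (ρ : Representation k H V) (N : Subgroup H) (U : Submodule k V) : Prop := ∀ n ∈ N, ∀ v ∈ U, ρ n v ∈ U

/-- a minimal non-zero `N`-invariant subspace -/
def NMin (ρ : Representation k H V) (N : Subgroup H) (W : Submodule k V) : Prop :=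
  NInv ρ N W ∧ W ≠ ⊥ ∧ ∀ U : Submodule k V, U ≤ W → NInv ρ N U → U = ⊥ ∨ U = W

theorem NInv.inf {ρ : Representation k H V} {N : Subgroup H} {U W : Submodule k V} (hU : NInv ρ N U)
    (hW : NInv ρ N W) : NInv ρ N (U ⊓ W) := fun n hn v hv => ⟨hU n hn v hv.1, hW n hn v hv.2⟩

theorem NInv.sup {ρ : Representation k H V} {N : Subgroup H} {U W : Submodule k V} (hU : NInv ρ N U)
    (hW : NInv ρ N W) : NInv ρ N (U ⊔ W) := by
  intro n hn v hv
  obtain ⟨a, ha, b, hb, rfl⟩ := Submodule.mem_sup.1 hv
  rw [map_add]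
  exact Submodule.add_mem_sup (hU n hn a ha) (hW n hn b hb)

theorem NInv.map {ρ : Representation k H V} {N : Subgroup H} [hN : N.Normal] {U : Submodule k V}
    (hU : NInv ρ N U) (h : H) : NInv ρ N (U.map (ρ h)) := by
  rintro n hn _ ⟨v, hv, rfl⟩
  refine ⟨ρ (h⁻¹ * n * h) v, hU _ (by simpa using hN.conj_mem n hn h⁻¹) v hv, ?_⟩
  rw [← rep_mul_apply, ← rep_mul_apply]
  congr 2
  group

theorem map_map_inv (ρ : Representation k H V) (h : H) (U : Submodule k V) : (U.map (ρ h)).map (ρ h⁻¹) = U := by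
  rw [← Submodule.map_comp, ← Module.End.mul_eq_comp, ← map_mul, inv_mul_cancel, map_one, Module.End.one_eq_id,
    Submodule.map_id]

theorem NMin.map {ρ : Representation k H V} {N : Subgroup H} [hN : N.Normal] {W : Submodule k V}
    (hW : NMin ρ N W) (h : H) : NMin ρ N (W.map (ρ h)) := by
  refine ⟨hW.1.map h, fun h0 => hW.2.1 ?_, fun U hU hI => ?_⟩
  · rw [← map_map_inv ρ h W, h0, Submodule.map_bot]
  · have h1 : U.map (ρ h⁻¹) ≤ W := by
      rw [← map_map_inv ρ h W]
      exact Submodule.map_mono hU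
    have h2 := map_map_inv ρ h⁻¹ U
    rw [inv_inv] at h2
    rcases hW.2.2 _ h1 (hI.map h⁻¹) with h3 | h3
    · left
      rw [← h2, h3, Submodule.map_bot]
    · right
      rw [← h2, h3]

variable [FiniteDimensional k V]

theorem exists_nmin (ρ : Representation k H V) (N : Subgroup H) [Nontrivial V] : ∃ W, NMin ρ N W := by
  classical
  have hex : ∃ d, ∃ W : Submodule k V, (NInv ρ N W ∧ W ≠ ⊥) ∧ finrank k W = d :=
    ⟨_, ⊤, ⟨fun _ _ _ _ => Submodule.mem_top, top_ne_bot⟩, rfl⟩
  obtain ⟨W, ⟨hW, hW0⟩, hd⟩ := Nat.find_spec hex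
  refine ⟨W, hW, hW0, fun U hU hI => ?_⟩
  by_cases h0 : U = ⊥
  · exact Or.inl h0
  · right
    have h1 := Nat.find_min' hex ⟨U, ⟨hI, h0⟩, rfl⟩
    exact Submodule.eq_of_le_of_finrank_le hU (by rw [hd]; exact h1)

theorem finrank_sup_fix {g : Module.End k V} {U W : Submodule k V} (hU : ∀ v ∈ U, g v ∈ U) (hW : ∀ v ∈ W, g v ∈ W)
    (hd : U ⊓ W = ⊥) :
    finrank k ↥((U ⊔ W) ⊓ fixSp g) ≤ finrank k ↥(U ⊓ fixSp g) + finrank k ↥(W ⊓ fixSp g) := by
  have h1 : (U ⊔ W) ⊓ fixSp g ≤ (U ⊓ fixSp g) ⊔ (W ⊓ fixSp g) := by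
    rintro v ⟨hv, hf⟩
    obtain ⟨a, ha, b, hb, rfl⟩ := Submodule.mem_sup.1 hv
    have hf' := mem_fixSp.1 hf
    rw [map_add] at hf'
    have h2 : g a - a = b - g b := by
      rw [sub_eq_sub_iff_add_eq_add, hf', add_comm]
    have h3 : g a - a ∈ U ⊓ W := ⟨U.sub_mem (hU a ha) ha, by rw [h2]; exact W.sub_mem hb (hW b hb)⟩
    rw [hd, Submodule.mem_bot] at h3
    have h4 : b - g b = 0 := by rw [← h2, h3]
    exact Submodule.add_mem_sup ⟨ha, mem_fixSp.2 (sub_eq_zero.1 h3)⟩ ⟨hb, mem_fixSp.2 (sub_eq_zero.1 h4).symm⟩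
  exact (Submodule.finrank_mono h1).trans (Submodule.finrank_add_le_finrank_add_finrank _ _)

/-- Clifford's theorem, used to add up the fixed spaces over the constituents of a normal subgroup -/
theorem glue (ρ : Representation k H V) (N : Subgroup H) [N.Normal]
    (hirr : ∀ U : Submodule k V, (∀ h : H, ∀ v ∈ U, ρ h v ∈ U) → U = ⊥ ∨ U = ⊤)
    {X : Type*} [Fintype X] (g : X → H) (hg : ∀ x, g x ∈ N)
    (hW : ∀ W, NMin ρ N W → ∑ x, 3 * finrank k ↥(W ⊓ fixSp (ρ (g x))) ≤ Fintype.card X * finrank k W) :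
    ∑ x, 3 * dfx (ρ (g x)) ≤ Fintype.card X * finrank k V := by
  classical
  rcases subsingleton_or_nontrivial V with hV | hV
  · have : ∀ x, dfx (ρ (g x)) = 0 := fun x => by
      have h1 := dfx_le (ρ (g x))
      rw [finrank_zero_of_subsingleton] at h1
      omega
    simp [this]
  have hsoc : sSup {W | NMin ρ N W} = ⊤ := by
    refine (hirr _ ?_).resolve_left ?_
    · intro h v hv
      have h1 : sSup {W | NMin ρ N W} ≤ (sSup {W | NMin ρ N W}).comap (ρ h) := by
        refine sSup_le fun W hW => ?_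
        rw [← Submodule.map_le_iff_le_comap]
        exact le_sSup (NMin.map hW h)
      exact h1 hv
    · obtain ⟨W, hW⟩ := exists_nmin ρ N
      intro h0
      exact hW.2.1 (eq_bot_iff.2 (h0 ▸ le_sSup hW))
  let P : Submodule k V → Prop := fun U =>
    NInv ρ N U ∧ ∑ x, 3 * finrank k ↥(U ⊓ fixSp (ρ (g x))) ≤ Fintype.card X * finrank k U
  have hex : ∃ d, ∃ U : Submodule k V, P U ∧ finrank k V - finrank k U = d := by
    refine ⟨_, ⊥, ⟨fun n _ v hv => ?_, ?_⟩, rfl⟩
    · rw [Submodule.mem_bot] at hv ⊢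
      rw [hv, map_zero]
    · simp
  obtain ⟨U, ⟨hU, hs⟩, hd⟩ := Nat.find_spec hex
  by_cases hT : U = ⊤
  · subst hT
    have e : ∀ x, finrank k ↥(⊤ ⊓ fixSp (ρ (g x))) = dfx (ρ (g x)) := fun x => by rw [top_inf_eq, dfx]
    simpa only [e, finrank_top] using hs
  exfalso
  have h1 : ∃ W, NMin ρ N W ∧ ¬ W ≤ U := by
    by_contra hc
    push Not at hc
    exact hT (eq_top_iff.2 (hsoc ▸ sSup_le hc))
  obtain ⟨W, hWm, hWU⟩ := h1
  have h2 : U ⊓ W = ⊥ := by
    rcases hWm.2.2 (U ⊓ W) inf_le_right (hU.inf hWm.1) with h | h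
    · exact h
    · exact absurd (h ▸ inf_le_left) hWU
  have h3 := Submodule.finrank_sup_add_finrank_inf_eq U W
  rw [h2, finrank_bot, add_zero] at h3
  have h4 : P (U ⊔ W) := by
    refine ⟨hU.sup hWm.1, ?_⟩
    rw [h3, mul_add]
    refine le_trans ?_ (add_le_add hs (hW W hWm))
    rw [← Finset.sum_add_distrib]
    refine Finset.sum_le_sum fun x _ => ?_
    have := finrank_sup_fix (hU _ (hg x)) (hWm.1 _ (hg x)) h2
    omega
  have h5 := Nat.find_min' hex ⟨U ⊔ W, h4, rfl⟩
  have h6 : 0 < finrank k W := by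
    rw [Nat.pos_iff_ne_zero, Ne, Submodule.finrank_eq_zero]
    exact hWm.2.1
  have h7 := Submodule.finrank_le (U ⊔ W)
  omega

theorem exists_of_sum {X : Type*} [Fintype X] [Nonempty X] {f : X → ℕ} {n : ℕ}
    (h : ∑ x, f x ≤ Fintype.card X * n) : ∃ x, f x ≤ n := by
  by_contra hc
  push Not at hc
  have h1 : ∑ _x : X, n < ∑ x, f x := Finset.sum_lt_sum_of_nonempty Finset.univ_nonempty fun x _ => hc x
  rw [Finset.sum_const, Finset.card_univ, smul_eq_mul] at h1
  omega

end glue

section cyc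

variable {k V : Type*} [Field k] [AddCommGroup V] [Module k V] {O : Type*}

theorem exists_proj (E : O → Submodule k V) (hind : iSupIndep E) (htop : ⨆ i, E i = ⊤) :
    ∃ π : O → Module.End k V, (∀ i v, π i v ∈ E i) ∧ (∀ i, ∀ v ∈ E i, π i v = v) ∧
      ∀ i j, j ≠ i → ∀ v ∈ E j, π i v = 0 := by
  have hc : ∀ i, IsCompl (E i) (⨆ (j) (_ : j ≠ i), E j) := fun i =>
    ⟨hind i, codisjoint_iff.2 (by rw [← iSup_split_single E i, htop])⟩
  refine ⟨fun i => (E i).projection _ (hc i), fun i v => Submodule.projection_apply_mem _ _,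
    fun i v hv => Submodule.projection_apply_of_mem_left _ hv, fun i j hj v hv => ?_⟩
  exact Submodule.projection_apply_of_mem_right _
    (Submodule.mem_iSup_of_mem j (Submodule.mem_iSup_of_mem hj hv))

variable [FiniteDimensional k V] [Fintype O]

/-- fixed spaces of operators that permute a direct sum decomposition without fixed summand -/
theorem cyc_bound {X : Type*} [Fintype X] (E : O → Submodule k V) (hind : iSupIndep E) (htop : ⨆ i, E i = ⊤)
    (σ : Equiv.Perm O) (hσ : ∀ i, σ i ≠ i) (g : X → Module.End k V) (hg : ∀ x, Function.Injective (g x))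
    (hmap : ∀ x i, ∀ v ∈ E i, g x v ∈ E (σ i))
    (h2 : ∀ i, σ (σ i) = i → ∑ x, 2 * finrank k ↥(E i ⊓ fixSp (g x * g x)) ≤ Fintype.card X * finrank k (E i)) :
    ∑ x, 3 * dfx (g x) ≤ Fintype.card X * finrank k V := by
  classical
  rcases isEmpty_or_nonempty X with hX | hX
  · simp
  obtain ⟨π, hπ1, hπ2, hπ3⟩ := exists_proj E hind htop
  have hmem : ∀ v, v ∈ ⨆ i, E i := fun v => by rw [htop]; exact Submodule.mem_top
  have hsum : ∀ v, ∑ i, π i v = v := by
    intro v
    refine Submodule.iSup_induction E (motive := fun v => ∑ i, π i v = v) (hmem v) ?_ ?_ ?_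
    · intro j v hv
      rw [Finset.sum_eq_single j (fun i _ hi => hπ3 i j hi.symm v hv) (fun h => absurd (Finset.mem_univ j) h),
        hπ2 j v hv]
    · simp
    · intro a b ha hb
      simp only [map_add, Finset.sum_add_distrib, ha, hb]
  have hequi : ∀ x i v, π (σ i) (g x v) = g x (π i v) := by
    intro x i v
    refine Submodule.iSup_induction E (motive := fun v => π (σ i) (g x v) = g x (π i v)) (hmem v) ?_ ?_ ?_
    · intro j v hv
      by_cases hj : j = i
      · subst hj
        rw [hπ2 j v hv, hπ2 _ _ (hmap x j v hv)]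
      · rw [hπ3 i j hj v hv, hπ3 (σ i) (σ j) (fun h => hj (σ.injective h)) _ (hmap x j v hv), map_zero]
    · simp
    · intro a b ha hb
      simp only [map_add, ha, hb]
  -- dimensions grow along cycles
  have hdim : ∀ i, finrank k (E i) ≤ finrank k (E (σ i)) := by
    intro i
    obtain ⟨x⟩ := hX
    refine LinearMap.finrank_le_finrank_of_injective (f := (g x).restrict (hmap x i)) ?_
    intro a b hab
    exact Subtype.ext (hg x (congrArg Subtype.val hab))
  -- the sum of the dimensions
  have htot : ∑ i, finrank k (E i) ≤ finrank k V := by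
    rw [← Module.finrank_pi_fintype k]
    refine LinearMap.finrank_le_finrank_of_injective
      (f := ∑ i, (E i).subtype ∘ₗ LinearMap.proj (R := k) (φ := fun i => ↥(E i)) i) ?_
    rw [injective_iff_map_eq_zero]
    intro a ha
    funext j
    have h3 := congrArg (π j) ha
    rw [LinearMap.sum_apply, map_sum, map_zero] at h3
    change ∑ i, π j (a i) = 0 at h3
    rw [Finset.sum_eq_single j (fun i _ hi => hπ3 j i hi _ (a i).2) (fun h => absurd (Finset.mem_univ j) h)] at h3
    exact Subtype.ext ((hπ2 j _ (a j).2).symm.trans h3)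
  let Q := Quotient (Equiv.Perm.SameCycle.setoid σ)
  have : Fintype Q := Fintype.ofFinite Q
  let t : Q → O := Quotient.out
  let B : X → O → Submodule k V := fun x i => if σ (σ i) = i then E i ⊓ fixSp (g x * g x) else E i
  let w : O → ℕ := fun i => if σ (σ i) = i then 2 * finrank k (E i) else 3 * finrank k (E i)
  have hd : ∀ x, dfx (g x) ≤ ∑ q, finrank k (B x (t q)) := by
    intro x
    rw [← Module.finrank_pi_fintype k]
    have hB : ∀ q, ∀ v : fixSp (g x), (π (t q) ∘ₗ (fixSp (g x)).subtype) v ∈ B x (t q) := by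
      intro q v
      have hv := mem_fixSp.1 v.2
      change π (t q) v ∈ if σ (σ (t q)) = t q then E (t q) ⊓ fixSp (g x * g x) else E (t q)
      split_ifs with h
      · refine ⟨hπ1 _ _, mem_fixSp.2 ?_⟩
        rw [Module.End.mul_apply, ← hequi, ← hequi, hv, hv, h]
      · exact hπ1 _ _
    refine LinearMap.finrank_le_finrank_of_injective
      (f := LinearMap.pi fun q => LinearMap.codRestrict (B x (t q)) _ (hB q)) ?_
    rw [injective_iff_map_eq_zero]
    intro v hv0
    have hv := mem_fixSp.1 v.2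
    have h3 : ∀ q, π (t q) v = 0 := fun q => congrArg Subtype.val (congrFun hv0 q)
    have h4 : ∀ (m : ℕ) (i : O), π i v = 0 → π ((σ ^ m) i) v = 0 := by
      intro m i hi
      induction m with
      | zero => exact hi
      | succ m ih => rw [pow_succ', Equiv.Perm.mul_apply, ← hv, hequi, ih, map_zero]
    have h5 : ∀ i, π i v = 0 := by
      intro i
      have h6 : Equiv.Perm.SameCycle σ (t (Quotient.mk _ i)) i :=
        Quotient.mk_out (s := Equiv.Perm.SameCycle.setoid σ) i
      obtain ⟨m, -, hm⟩ := h6.exists_pow_eq'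
      rw [← hm]
      exact h4 m _ (h3 _)
    apply Subtype.ext
    rw [← hsum v]
    simp only [h5, Finset.sum_const_zero, ZeroMemClass.coe_zero]
  have hw : ∑ q, w (t q) ≤ finrank k V := by
    refine le_trans ?_ htot
    rw [← Finset.sum_fiberwise Finset.univ (fun i => (Quotient.mk (Equiv.Perm.SameCycle.setoid σ) i : Q))]
    refine Finset.sum_le_sum fun q _ => ?_
    have hq : (Quotient.mk (Equiv.Perm.SameCycle.setoid σ) (t q) : Q) = q := Quotient.out_eq q
    have hs : ∀ i, (Quotient.mk (Equiv.Perm.SameCycle.setoid σ) (σ i) : Q) = Quotient.mk _ i := fun i =>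
      Quotient.sound (Equiv.Perm.SameCycle.symm ⟨1, by rw [zpow_one]⟩)
    have e1 := hdim (t q)
    have e2 := hdim (σ (t q))
    change (if σ (σ (t q)) = t q then 2 * finrank k (E (t q)) else 3 * finrank k (E (t q))) ≤ _
    split_ifs with h
    · refine le_trans ?_ (Finset.sum_le_sum_of_subset (s := {t q, σ (t q)}) ?_)
      · rw [Finset.sum_pair (hσ _).symm]
        omega
      · intro i hi
        simp only [Finset.mem_insert, Finset.mem_singleton] at hi
        rcases hi with rfl | rfl <;> simp only [Finset.mem_filter, Finset.mem_univ, true_and, hs, hq]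
    · refine le_trans ?_ (Finset.sum_le_sum_of_subset (s := {t q, σ (t q), σ (σ (t q))}) ?_)
      · rw [Finset.sum_insert, Finset.sum_pair (hσ _).symm]
        · omega
        · simp only [Finset.mem_insert, Finset.mem_singleton, not_or]
          exact ⟨(hσ _).symm, Ne.symm h⟩
      · intro i hi
        simp only [Finset.mem_insert, Finset.mem_singleton] at hi
        rcases hi with rfl | rfl | rfl <;> simp only [Finset.mem_filter, Finset.mem_univ, true_and, hs, hq]
  have hB : ∀ i, ∑ x, 3 * finrank k (B x i) ≤ Fintype.card X * w i := by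
    intro i
    by_cases h : σ (σ i) = i
    · have e1 : ∀ x, finrank k (B x i) = finrank k ↥(E i ⊓ fixSp (g x * g x)) := fun x =>
        congrArg (fun U : Submodule k V => finrank k U) (if_pos h)
      have e2 : w i = 2 * finrank k (E i) := if_pos h
      have h3 := h2 i h
      simp only [e1, e2]
      rw [← Finset.mul_sum] at h3 ⊢
      nlinarith
    · have e1 : ∀ x, finrank k (B x i) = finrank k (E i) := fun x =>
        congrArg (fun U : Submodule k V => finrank k U) (if_neg h)
      have e2 : w i = 3 * finrank k (E i) := if_neg h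
      simp only [e1, e2]
      rw [Finset.sum_const, Finset.card_univ, smul_eq_mul]
  calc ∑ x, 3 * dfx (g x) ≤ ∑ x, ∑ q, 3 * finrank k (B x (t q)) := by
        refine Finset.sum_le_sum fun x _ => ?_
        rw [← Finset.mul_sum]
        exact Nat.mul_le_mul_left 3 (hd x)
    _ = ∑ q, ∑ x, 3 * finrank k (B x (t q)) := Finset.sum_comm
    _ ≤ ∑ q, Fintype.card X * w (t q) := Finset.sum_le_sum fun q _ => hB _
    _ ≤ Fintype.card X * finrank k V := by
        rw [← Finset.mul_sum]
        exact Nat.mul_le_mul_left _ hw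

end cyc

end Cfsg.Agent.FP3
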