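import Cfsg.Agent.FP3.Aff.Glue

/-!
# S3519, affine box: irreducible modules of `S ^ l` and of abelian groups (helper93)
-/

set_option autoImplicit false

namespace Cfsg.Agent.FP3

open Module

variable {k W : Type*} [Field k] [AddCommGroup W] [Module k W]

/-- irreducible in the weak sense (zero allowed) -/
def Irr {G : Type*} [Group G] (ρ : Representation k G W) : Prop :=
  ∀ U : Submodule k W, (∀ g : G, ∀ v ∈ U, ρ g v ∈ U) → U = ⊥ ∨ U = ⊤

/-- the fixed points of a set of group elements -/
def fixOf {G : Type*} [Group G] (ρ : Representation k G W) (N : Subgroup G) : Submodule k W :=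
  ⨅ n : N, fixSp (ρ n)

theorem mem_fixOf {G : Type*} [Group G] {ρ : Representation k G W} {N : Subgroup G} {w : W} :
    w ∈ fixOf ρ N ↔ ∀ n ∈ N, ρ n w = w := by
  simp only [fixOf, Submodule.mem_iInf, mem_fixSp, Subtype.forall]

theorem fixOf_inv {G : Type*} [Group G] (ρ : Representation k G W) (N : Subgroup G) [hN : N.Normal] (g : G) :
    ∀ v ∈ fixOf ρ N, ρ g v ∈ fixOf ρ N := by
  intro v hv
  rw [mem_fixOf] at hv ⊢
  intro n hn
  have h1 := hv _ (by simpa using hN.conj_mem n hn g⁻¹ : g⁻¹ * n * g ∈ N)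
  conv_rhs => rw [← h1]
  rw [← rep_mul_apply, ← rep_mul_apply]
  congr 2
  group

theorem comOf_inv {G : Type*} [Group G] (ρ : Representation k G W) (N : Subgroup G) [hN : N.Normal] (g : G) :
    ∀ v ∈ ⨆ n : N, comSp (ρ n), ρ g v ∈ ⨆ n : N, comSp (ρ n) := by
  have h1 : ⨆ n : N, comSp (ρ n) ≤ (⨆ n : N, comSp (ρ n)).comap (ρ g) := by
    refine iSup_le fun n v hv => ?_
    obtain ⟨v, rfl⟩ := mem_comSp.1 hv
    refine Submodule.mem_iSup_of_mem (⟨g * n * g⁻¹, hN.conj_mem _ n.2 g⟩ : N) (mem_comSp.2 ⟨ρ g v, ?_⟩)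
    rw [map_sub, ← rep_mul_apply, ← rep_mul_apply]
    congr 3
    group
  exact fun v hv => h1 hv

/-- a normal subgroup acting non-trivially on an irreducible module has no fixed and no cofixed vectors -/
theorem normal_fix {G : Type*} [Group G] {ρ : Representation k G W} (hirr : Irr ρ) (N : Subgroup G) [N.Normal]
    (hne : ∃ n ∈ N, ρ n ≠ 1) : (∀ w, (∀ n ∈ N, ρ n w = w) → w = 0) ∧ ⨆ n : N, comSp (ρ n) = ⊤ := by
  obtain ⟨n, hn, hne⟩ := hne
  constructor
  · rcases hirr _ (fixOf_inv ρ N) with h | h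
    · intro w hw
      have := mem_fixOf.2 hw
      rwa [h, Submodule.mem_bot] at this
    · exact absurd (LinearMap.ext fun w => mem_fixOf.1 (h ▸ Submodule.mem_top) n hn) hne
  · refine (hirr _ (comOf_inv ρ N)).resolve_left fun h => hne (LinearMap.ext fun w => ?_)
    have h1 : ρ n w - w ∈ ⨆ n : N, comSp (ρ n) := Submodule.mem_iSup_of_mem (⟨n, hn⟩ : N) (sub_mem_comSp _ _)
    rw [h, Submodule.mem_bot] at h1
    exact sub_eq_zero.1 h1

variable [FiniteDimensional k W]

theorem dfx_eq_zero [Subsingleton W] (u : Module.End k W) : dfx u = 0 := by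
  have h1 := dfx_le u
  rw [finrank_zero_of_subsingleton] at h1
  omega

theorem range_mulSingle_normal {ι S : Type*} [DecidableEq ι] [Group S] (i : ι) :
    (MonoidHom.mulSingle (fun _ : ι => S) i).range.Normal := by
  constructor
  rintro _ ⟨s, rfl⟩ g
  refine ⟨g i * s * (g i)⁻¹, ?_⟩
  funext j
  by_cases h : j = i
  · subst h
    simp
  · simp [Pi.mulSingle_eq_of_ne h]

/-- the average over `∏ {y, x y}` on an irreducible module of `S ^ ι` -/
theorem irr_prod {ι S : Type*} [Fintype ι] [DecidableEq ι] [Group S] (hS : commutator S = ⊤) {x y : S}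
    (hxy : Subgroup.closure ({x, y} : Set S) = ⊤) (hx : x ^ 2 = 1) (ρ : Representation k (ι → S) W) (hirr : Irr ρ)
    (hfix : ∀ w, (∀ n, ρ n w = w) → w = 0) :
    ∑ f : ι → Bool, 3 * dfx (ρ fun i => if f i then y else x * y) ≤ Fintype.card (ι → Bool) * finrank k W := by
  rcases subsingleton_or_nontrivial W with hW | hW
  · simp [dfx_eq_zero]
  have h1 : ∃ i s, ρ (Pi.mulSingle i s) ≠ 1 := by
    by_contra hc
    push Not at hc
    have h2 : ρ = 1 := MonoidHom.pi_ext fun i s => by rw [hc, MonoidHom.one_apply]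
    obtain ⟨w, hw⟩ := exists_ne (0 : W)
    exact hw (hfix w fun n => by rw [h2, MonoidHom.one_apply, Module.End.one_apply])
  obtain ⟨i, s, hs⟩ := h1
  have := range_mulSingle_normal (S := S) i
  obtain ⟨h2, h3⟩ := normal_fix hirr (MonoidHom.mulSingle (fun _ : ι => S) i).range ⟨_, ⟨s, rfl⟩, hs⟩
  let σ : Representation k S W := ρ.comp (MonoidHom.mulSingle (fun _ : ι => S) i)
  have h4 : ∀ w, (∀ s, σ s w = w) → w = 0 := fun w hw => h2 w (by rintro _ ⟨s, rfl⟩; exact hw s)
  have h5 : ⨆ s, comSp (σ s) = ⊤ := by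
    rw [eq_top_iff, ← h3]
    refine iSup_le ?_
    rintro ⟨_, s, rfl⟩
    exact le_iSup (fun s => comSp (σ s)) s
  let g : (ι → Bool) → ι → S := fun f i => if f i then y else x * y
  let fl : (ι → Bool) ≃ (ι → Bool) := Function.Involutive.toPerm (fun f => Function.update f i (!f i)) (by
    intro f
    simp)
  have h6 : ∀ f, 3 * (dfx (ρ (g f)) + dfx (ρ (g (fl f)))) ≤ 2 * finrank k W := by
    intro f
    have hh : ∀ s, σ s * ρ (Function.update (g f) i 1) = ρ (Function.update (g f) i 1) * σ s := by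
      intro s
      change ρ _ * _ = _ * ρ _
      rw [← map_mul, ← map_mul]
      congr 1
      funext j
      by_cases h : j = i
      · subst h
        simp
      · simp [Pi.mulSingle_eq_of_ne h]
    have h7 := a1 hS hxy hx σ h4 h5 ((Group.isUnit _).map ρ) hh
    have e : ∀ (s : S) (n : ι → S), n i = s → (∀ j, j ≠ i → n j = g f j) →
        σ s * ρ (Function.update (g f) i 1) = ρ n := by
      intro s n h1 h2
      change ρ _ * _ = _
      rw [← map_mul]
      congr 1
      funext j
      by_cases h : j = i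
      · subst h
        simp [h1]
      · simp [Pi.mulSingle_eq_of_ne h, h2 j h, Function.update_of_ne h]
    have e2 : ∀ j, j ≠ i → g (fl f) j = g f j := by
      intro j hj
      change (if Function.update f i (!f i) j then y else x * y) = if f j then y else x * y
      rw [Function.update_of_ne hj]
    have e3 : g (fl f) i = if f i then x * y else y := by
      change (if Function.update f i (!f i) i then y else x * y) = _
      rw [Function.update_self]
      cases f i <;> rfl
    by_cases hf : f i = true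
    · rw [e y (g f) (if_pos hf) (fun _ _ => rfl), e (x * y) (g (fl f)) (e3.trans (if_pos hf)) e2] at h7
      exact h7
    · rw [e (x * y) (g f) (if_neg hf) (fun _ _ => rfl), e y (g (fl f)) (e3.trans (if_neg hf)) e2, add_comm] at h7
      exact h7
  have h8 : ∑ f, dfx (ρ (g (fl f))) = ∑ f, dfx (ρ (g f)) := Equiv.sum_comp fl fun f => dfx (ρ (g f))
  have h9 := Finset.sum_le_sum fun f (_ : f ∈ Finset.univ) => h6 f
  rw [← Finset.mul_sum, Finset.sum_add_distrib, h8, Finset.sum_const, Finset.card_univ, smul_eq_mul] at h9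
  rw [← Finset.mul_sum]
  change 3 * ∑ f, dfx (ρ (g f)) ≤ _
  nlinarith

/-- three independent fixed spaces -/
theorem three_fix {g h : Module.End k W} (hc : g * h = h * g) (h1 : ∀ w, g w = w → w = 0)
    (h2 : ∀ w, g (g w) = w → w = 0) : dfx h + dfx (g * h) + dfx (g * g * h) ≤ finrank k W := by
  have hc' : ∀ w, g (h w) = h (g w) := fun w => by rw [← Module.End.mul_apply, hc, Module.End.mul_apply]
  have hAB : fixSp h ⊓ fixSp (g * h) = ⊥ := by
    rw [eq_bot_iff]
    rintro w ⟨ha, hb⟩
    have ha' := mem_fixSp.1 ha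
    have hb' := mem_fixSp.1 hb
    rw [Module.End.mul_apply, ha'] at hb'
    exact h1 w hb'
  have h3 := Submodule.finrank_sup_add_finrank_inf_eq (fixSp h) (fixSp (g * h))
  rw [hAB, finrank_bot, add_zero] at h3
  have h4 := finrank_add_le_of_disjoint (A := fixSp h ⊔ fixSp (g * h)) (B := fixSp (g * g * h)) (by
    intro w hw hc
    obtain ⟨a, ha, b, hb, rfl⟩ := Submodule.mem_sup.1 hw
    have ha' := mem_fixSp.1 ha
    have hb' := mem_fixSp.1 hb
    have hc' := mem_fixSp.1 hc
    simp only [Module.End.mul_apply, map_add] at hb' hc'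
    rw [ha', hb'] at hc'
    have h5 : g a + a + b = 0 := by
      apply h1
      rw [map_add, map_add]
      calc g (g a) + g a + g b = g a + (g (g a) + g b) := by abel
        _ = g a + a + b := by rw [hc', add_assoc]
    have h6 : b = -(g a + a) := eq_neg_of_add_eq_zero_right h5
    have h7 : b ∈ fixSp h ⊓ fixSp (g * h) := by
      refine ⟨mem_fixSp.2 ?_, hb⟩
      rw [h6, map_neg, map_add, ← ‹∀ w, g (h w) = h (g w)› a, ha']
    rw [hAB, Submodule.mem_bot] at h7
    rw [h7, map_zero, add_zero, add_zero] at hc'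
    rw [h2 a hc', h7, add_zero])
  unfold dfx
  omega

/-- the average over an abelian group of odd order on an irreducible module -/
theorem irr_ab {N : Type*} [Group N] [Fintype N] (hN : ∀ a b : N, a * b = b * a)
    (hodd : ∀ g : N, ∃ m : ℕ, (g * g) ^ m = g) (ρ : Representation k N W) (hirr : Irr ρ)
    (hfix : ∀ w, (∀ n, ρ n w = w) → w = 0) :
    ∑ n : N, 3 * dfx (ρ n) ≤ Fintype.card N * finrank k W := by
  rcases subsingleton_or_nontrivial W with hW | hW
  · simp [dfx_eq_zero]
  have h0 : ∀ g : N, ρ g ≠ 1 → ∀ w, ρ g w = w → w = 0 := by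
    intro g hg w hw
    rcases hirr (fixSp (ρ g)) (fun n v hv => by
      rw [mem_fixSp] at hv ⊢
      rw [← rep_mul_apply, hN, rep_mul_apply, hv]) with h | h
    · have := mem_fixSp.2 hw
      rwa [h, Submodule.mem_bot] at this
    · exact absurd (LinearMap.ext fun w => mem_fixSp.1 (h ▸ Submodule.mem_top)) hg
  have h1 : ∃ g, ρ g ≠ 1 := by
    by_contra hc
    push Not at hc
    obtain ⟨w, hw⟩ := exists_ne (0 : W)
    exact hw (hfix w fun n => by rw [hc, Module.End.one_apply])
  obtain ⟨g, hg⟩ := h1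
  have hg2 : ρ (g * g) ≠ 1 := by
    intro h
    obtain ⟨m, hm⟩ := hodd g
    exact hg (by rw [← hm, map_pow, h, one_pow])
  have h2 : ∀ n, dfx (ρ n) + dfx (ρ (g * n)) + dfx (ρ (g * g * n)) ≤ finrank k W := by
    intro n
    rw [map_mul, map_mul, map_mul]
    exact three_fix (by rw [← map_mul, ← map_mul, hN]) (h0 g hg)
      (fun w hw => h0 _ hg2 w (by rw [rep_mul_apply, hw]))
  have h3 : ∀ a : N, ∑ n, dfx (ρ (a * n)) = ∑ n, dfx (ρ n) := fun a =>
    Equiv.sum_comp (Equiv.mulLeft a) fun n => dfx (ρ n)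
  have h4 := Finset.sum_le_sum fun n (_ : n ∈ Finset.univ) => h2 n
  rw [Finset.sum_add_distrib, Finset.sum_add_distrib, h3, h3, Finset.sum_const, Finset.card_univ, smul_eq_mul] at h4
  rw [← Finset.mul_sum]
  omega

section restrict

variable {V H : Type*} [AddCommGroup V] [Module k V] [Group H]

/-- the restriction to an invariant subspace along a homomorphism -/
def resRep (ρ : Representation k H V) {M : Type*} [Group M] (φ : M →* H) (U : Submodule k V)
    (hU : NInv ρ φ.range U) : Representation k M U :=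
  Representation.subrepresentation (ρ.comp φ) U fun m _ hv => hU _ ⟨m, rfl⟩ _ hv

theorem resRep_apply (ρ : Representation k H V) {M : Type*} [Group M] (φ : M →* H) (U : Submodule k V)
    (hU : NInv ρ φ.range U) (m : M) (v : U) : ((resRep ρ φ U hU m v : U) : V) = ρ (φ m) v := rfl

theorem dfx_resRep (ρ : Representation k H V) {M : Type*} [Group M] (φ : M →* H) (U : Submodule k V)
    (hU : NInv ρ φ.range U) (m : M) : dfx (resRep ρ φ U hU m) = finrank k ↥(U ⊓ fixSp (ρ (φ m))) := by
  have h1 : fixSp (resRep ρ φ U hU m) = (fixSp (ρ (φ m))).comap U.subtype := by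
    ext v
    rw [Submodule.mem_comap, mem_fixSp, mem_fixSp, Subtype.ext_iff, resRep_apply]
    rfl
  rw [dfx, h1, ← Submodule.finrank_map_subtype_eq, Submodule.map_comap_subtype]

theorem irr_resRep (ρ : Representation k H V) {M : Type*} [Group M] (φ : M →* H) {U : Submodule k V}
    (hU : NMin ρ φ.range U) : Irr (resRep ρ φ U hU.1) := by
  intro Y hY
  have h1 : NInv ρ φ.range (Y.map U.subtype) := by
    rintro _ ⟨m, rfl⟩ _ ⟨v, hv, rfl⟩
    exact ⟨_, hY m v hv, rfl⟩
  rcases hU.2.2 _ (Submodule.map_subtype_le U Y) h1 with h | h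
  · left
    apply Submodule.map_injective_of_injective U.injective_subtype
    rw [h, Submodule.map_bot]
  · right
    apply Submodule.map_injective_of_injective U.injective_subtype
    rw [h, Submodule.map_subtype_top]

variable [FiniteDimensional k V]

/-- gluing, with the normal subgroup given as the range of a homomorphism -/
theorem glue_hom (ρ : Representation k H V) (hirr : Irr ρ) {M : Type*} [Group M] (φ : M →* H) [φ.range.Normal]
    (hne : ∃ m, ρ (φ m) ≠ 1) {X : Type*} [Fintype X] [Nonempty X] (g : X → M)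
    (hW : ∀ (W : Submodule k V) (σ : Representation k M W), Irr σ → (∀ w, (∀ n, σ n w = w) → w = 0) →
      ∑ x, 3 * dfx (σ (g x)) ≤ Fintype.card X * finrank k W) :
    ∃ h : H, 3 * dfx (ρ h) ≤ finrank k V := by
  obtain ⟨m, hm⟩ := hne
  have h1 := (normal_fix hirr φ.range ⟨_, ⟨m, rfl⟩, hm⟩).1
  have h2 := glue ρ φ.range hirr (fun x => φ (g x)) (fun x => ⟨_, rfl⟩) (fun W hWm => by
    have h3 := hW W (resRep ρ φ W hWm.1) (irr_resRep ρ φ hWm) (fun w hw => Subtype.ext (h1 w (by
      rintro _ ⟨n, rfl⟩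
      exact congrArg Subtype.val (hw n))))
    simpa only [dfx_resRep] using h3)
  obtain ⟨x, hx⟩ := exists_of_sum h2
  exact ⟨_, hx⟩

end restrict

end Cfsg.Agent.FP3
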