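import Cfsg.Agent.FP3.Aff.Irr

/-!
# S3519, affine box: a normal elementary abelian `2`-subgroup (helper93)
-/

set_option autoImplicit false

namespace Cfsg.Agent.FP3

open Module

/-- Jordan: a transitive action on at least two points has a derangement -/
theorem exists_derangement (H O : Type*) [Group H] [Finite H] [MulAction H O] [Finite O] [Nontrivial O]
    [MulAction.IsPretransitive H O] : ∃ h : H, ∀ i : O, h • i ≠ i := by
  classical
  have := Fintype.ofFinite H
  have := Fintype.ofFinite O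
  have : Fintype (Quotient (MulAction.orbitRel H O)) := Fintype.ofFinite _
  by_contra hc
  push Not at hc
  have h1 := MulAction.sum_card_fixedBy_eq_card_orbits_mul_card_group H O
  have h2 : Fintype.card (Quotient (MulAction.orbitRel H O)) ≤ 1 := by
    rw [Fintype.card_le_one_iff_subsingleton]
    constructor
    rintro ⟨a⟩ ⟨b⟩
    exact Quotient.sound (MulAction.exists_smul_eq H b a)
  have h3 : ∑ _g : H, 1 < ∑ g : H, Fintype.card (MulAction.fixedBy O g) := by
    refine Finset.sum_lt_sum (fun g _ => ?_) ⟨1, Finset.mem_univ _, ?_⟩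
    · obtain ⟨i, hi⟩ := hc g
      exact Fintype.card_pos_iff.2 ⟨⟨i, hi⟩⟩
    · obtain ⟨a, b, hab⟩ := exists_pair_ne O
      exact Fintype.one_lt_card_iff.2 ⟨⟨a, one_smul H a⟩, ⟨b, one_smul H b⟩, fun h => hab (congrArg Subtype.val h)⟩
  rw [Finset.sum_const, Finset.card_univ, smul_eq_mul, mul_one, h1] at h3
  nlinarith

variable {k V H : Type*} [Field k] [AddCommGroup V] [Module k V] [Group H]

/-- weights of the normal subgroup `N` -/
def Wt (k : Type*) {H : Type*} [Group H] (N : Subgroup H) : Type _ := N → k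

/-- `H` acts on the weights -/
instance wtAction (N : Subgroup H) [N.Normal] : MulAction H (Wt k N) where
  smul h χ := fun n => χ (MulAut.conjNormal h⁻¹ n)
  one_smul χ := by
    funext n
    change χ (MulAut.conjNormal (1 : H)⁻¹ n) = χ n
    rw [inv_one, map_one, MulAut.one_apply]
  mul_smul a b χ := by
    funext n
    change χ (MulAut.conjNormal (a * b)⁻¹ n) = χ (MulAut.conjNormal b⁻¹ (MulAut.conjNormal a⁻¹ n))
    rw [mul_inv_rev, map_mul, MulAut.mul_apply]

omit [Field k] in
theorem wt_smul {N : Subgroup H} [N.Normal] (h : H) (χ : Wt k N) (n : N) :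
    (h • χ) n = χ (MulAut.conjNormal h⁻¹ n) := rfl

/-- weight spaces -/
def wtSp (ρ : Representation k H V) (N : Subgroup H) (χ : Wt k N) : Submodule k V :=
  ⨅ n : N, Module.End.eigenspace (ρ n) (χ n)

theorem mem_wtSp {ρ : Representation k H V} {N : Subgroup H} {χ : Wt k N} {v : V} :
    v ∈ wtSp ρ N χ ↔ ∀ n : N, ρ n v = χ n • v := by
  simp only [wtSp, Submodule.mem_iInf, Module.End.mem_eigenspace_iff]

theorem wtSp_map {ρ : Representation k H V} {N : Subgroup H} [N.Normal] (h : H) {χ : Wt k N} {v : V}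
    (hv : v ∈ wtSp ρ N χ) : ρ h v ∈ wtSp ρ N (h • χ) := by
  rw [mem_wtSp] at hv ⊢
  intro n
  rw [wt_smul, ← map_smul, ← hv, ← rep_mul_apply, ← rep_mul_apply, MulAut.conjNormal_apply]
  congr 2
  group

theorem wtSp_indep (ρ : Representation k H V) (N : Subgroup H) (hN : ∀ a ∈ N, ∀ b ∈ N, a * b = b * a) :
    iSupIndep (wtSp ρ N) := by
  have h1 := Module.End.independent_iInf_maxGenEigenspace_of_forall_mapsTo (fun n : N => ρ n) (fun i j φ =>
    Module.End.mapsTo_maxGenEigenspace_of_comm
      (show ρ j * ρ i = ρ i * ρ j by rw [← map_mul, ← map_mul, hN _ j.2 _ i.2]) φ)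
  exact h1.mono fun χ => iInf_mono fun n => Module.End.eigenspace_le_maxGenEigenspace

variable [FiniteDimensional k V]

/-- the case of a normal elementary abelian `2`-subgroup -/
theorem aff_two [Finite H] (ρ : Representation k H V) (hirr : Irr ρ) (N : Subgroup H) [hNn : N.Normal]
    (hne : ∃ n ∈ N, ρ n ≠ 1) (h2 : ∀ n ∈ N, n * n = 1) : ∃ h : H, 3 * dfx (ρ h) ≤ finrank k V := by
  classical
  rcases subsingleton_or_nontrivial V with hV | hV
  · exact ⟨1, by simp [dfx_eq_zero]⟩
  have hinv : ∀ n ∈ N, n⁻¹ = n := fun n hn => inv_eq_of_mul_eq_one_right (h2 n hn)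
  have hN : ∀ a ∈ N, ∀ b ∈ N, a * b = b * a := by
    intro a ha b hb
    rw [← hinv _ (N.mul_mem ha hb), mul_inv_rev, hinv a ha, hinv b hb]
  have hfix := (normal_fix hirr N hne).1
  obtain ⟨W, hW⟩ := exists_nmin ρ N
  -- every element of `N` acts on `W` as `± 1`
  have h3 : ∀ n : N, ∃ c : k, (c = 1 ∨ c = -1) ∧ ∀ w ∈ W, ρ n w = c • w := by
    intro n
    have h4 : NInv ρ N (W ⊓ fixSp (ρ n)) := by
      refine hW.1.inf fun m hm v hv => ?_
      rw [mem_fixSp] at hv ⊢
      rw [← rep_mul_apply, hN _ n.2 _ hm, rep_mul_apply, hv]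
    rcases hW.2.2 _ inf_le_left h4 with h | h
    · refine ⟨-1, Or.inr rfl, fun w hw => ?_⟩
      have h5 : ρ n w + w ∈ W ⊓ fixSp (ρ n) := by
        refine ⟨W.add_mem (hW.1 _ n.2 w hw) hw, mem_fixSp.2 ?_⟩
        rw [map_add, ← rep_mul_apply, h2 _ n.2, map_one, Module.End.one_apply, add_comm]
      rw [h, Submodule.mem_bot] at h5
      rw [neg_one_smul]
      exact eq_neg_of_add_eq_zero_left h5
    · refine ⟨1, Or.inl rfl, fun w hw => ?_⟩
      rw [← h] at hw
      rw [one_smul]
      exact mem_fixSp.1 hw.2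
  choose χ₀ hχ1 hχ2 using h3
  let χ : Wt k N := χ₀
  obtain ⟨w₀, hw₀, hw0⟩ := Submodule.exists_mem_ne_zero_of_ne_bot hW.2.1
  have hχ3 : ∃ n, χ n ≠ 1 := by
    by_contra hc
    push Not at hc
    exact hw0 (hfix w₀ fun n hn => by
      have := hχ2 ⟨n, hn⟩ w₀ hw₀
      rwa [show χ₀ ⟨n, hn⟩ = 1 from hc _, one_smul] at this)
  obtain ⟨n₀, hn₀⟩ := hχ3
  have hn1 : χ n₀ = -1 := (hχ1 n₀).resolve_left hn₀
  have htwo : ∀ v : V, v = -v → v = 0 := by
    intro v hv
    have h4 : ((1 : k) - χ n₀) • v = 0 := by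
      rw [hn1, sub_neg_eq_add, add_smul, one_smul]
      exact add_eq_zero_iff_eq_neg.2 hv
    exact (smul_eq_zero.1 h4).resolve_left (sub_ne_zero.2 hn₀.symm)
  let O := MulAction.orbit H χ
  have : Finite O := (Set.finite_range _).to_subtype
  have := Fintype.ofFinite O
  have := Fintype.ofFinite N
  let E : O → Submodule k V := fun i => wtSp ρ N i
  have hind : iSupIndep E := (wtSp_indep ρ N hN).comp Subtype.val_injective
  have hmap : ∀ (h : H) (i : O), ∀ v ∈ E i, ρ h v ∈ E (h • i) := fun h i v hv => wtSp_map h hv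
  have htop : ⨆ i, E i = ⊤ := by
    refine (hirr _ ?_).resolve_left fun h0 => hw0 ?_
    · intro h v hv
      have h4 : ⨆ i, E i ≤ (⨆ i, E i).comap (ρ h) :=
        iSup_le fun i v hv => Submodule.mem_iSup_of_mem (h • i) (hmap h i v hv)
      exact h4 hv
    · have h4 : w₀ ∈ ⨆ i, E i :=
        Submodule.mem_iSup_of_mem (⟨χ, MulAction.mem_orbit_self χ⟩ : O) (mem_wtSp.2 fun n => hχ2 n w₀ hw₀)
      rwa [h0, Submodule.mem_bot] at h4
  have hval : ∀ (i : O) (n : N), (i : Wt k N) n = 1 ∨ (i : Wt k N) n = -1 := by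
    rintro ⟨_, a, rfl⟩ n
    exact hχ1 _
  rcases subsingleton_or_nontrivial O with hO | hO
  · refine ⟨n₀, ?_⟩
    have h4 : fixSp (ρ n₀) = ⊥ := by
      rw [eq_bot_iff]
      intro v hv
      have h5 : ⨆ i, E i ≤ E ⟨χ, MulAction.mem_orbit_self χ⟩ := iSup_le fun i => by rw [Subsingleton.elim i]
      have h6 := mem_wtSp.1 (h5 (htop ▸ Submodule.mem_top : v ∈ ⨆ i, E i)) n₀
      rw [mem_fixSp.1 hv] at h6
      change v = χ n₀ • v at h6
      rw [hn1, neg_one_smul] at h6
      exact htwo v h6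
    rw [dfx, h4, finrank_bot]
    exact Nat.zero_le _
  obtain ⟨h, hh⟩ := exists_derangement H O
  have hsm : ∀ (n : N) (i : O), (h * (n : H)) • i = h • i := by
    intro n i
    rw [mul_smul]
    congr 1
    apply Subtype.ext
    funext m
    change (i : Wt k N) (MulAut.conjNormal (n : H)⁻¹ m) = (i : Wt k N) m
    refine congrArg (i : Wt k N) (Subtype.ext ?_)
    rw [MulAut.conjNormal_apply, hN _ (N.inv_mem n.2) _ m.2, mul_inv_cancel_right]
  have h4 := cyc_bound (X := N) E hind htop (MulAction.toPerm h) hh (fun n => ρ (h * n))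
    (fun n => Function.LeftInverse.injective (rep_inv_apply ρ (h * n)))
    (fun n i v hv => by
      have := hmap (h * n) i v hv
      rwa [hsm] at this)
    (fun i _ => by
      have h5 : ∃ m : N, ((h • i : O) : Wt k N) m ≠ (i : Wt k N) m := by
        by_contra hc
        push Not at hc
        exact hh i (Subtype.ext (funext hc))
      obtain ⟨m, hm⟩ := h5
      have h6 : ((h • i : O) : Wt k N) m * (i : Wt k N) m = -1 := by
        rcases hval (h • i) m with e1 | e1 <;> rcases hval i m with e2 | e2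
        · exact absurd (e1.trans e2.symm) hm
        · rw [e1, e2, one_mul]
        · rw [e1, e2, mul_one]
        · exact absurd (e1.trans e2.symm) hm
      have h7 : ∀ n : N, finrank k ↥(E i ⊓ fixSp (ρ (h * n) * ρ (h * n))) +
          finrank k ↥(E i ⊓ fixSp (ρ (h * (n * m : N)) * ρ (h * (n * m : N)))) ≤ finrank k (E i) := by
        intro n
        rw [← Submodule.finrank_sup_add_finrank_inf_eq]
        have h8 : (E i ⊓ fixSp (ρ (h * n) * ρ (h * n))) ⊓
            (E i ⊓ fixSp (ρ (h * (n * m : N)) * ρ (h * (n * m : N)))) = ⊥ := by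
          rw [eq_bot_iff]
          rintro v ⟨⟨hv, h9⟩, -, h10⟩
          have h9' := mem_fixSp.1 h9
          have h10' := mem_fixSp.1 h10
          have h11 : h * (n * m : N) * (h * (n * m : N)) =
              h * n * (h * n) * ((MulAut.conjNormal h⁻¹ m : N) * (m : H)) := by
            have h12 := hN _ n.2 _ (MulAut.conjNormal h⁻¹ m).2
            rw [MulAut.conjNormal_apply] at h12 ⊢
            rw [Subgroup.coe_mul]
            calc h * (n * m) * (h * (n * m)) = h * n * h * (h⁻¹ * m * h⁻¹⁻¹ * n) * m := by group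
              _ = h * n * h * (n * (h⁻¹ * m * h⁻¹⁻¹)) * m := by rw [h12]
              _ = _ := by group
          rw [← map_mul] at h9' h10'
          rw [h11, rep_mul_apply, rep_mul_apply ρ _ (m : H), mem_wtSp.1 hv m, map_smul, mem_wtSp.1 hv, smul_smul,
            mul_comm ((i : Wt k N) m)] at h10'
          change ρ _ ((((h • i : O) : Wt k N) m * (i : Wt k N) m) • v) = v at h10'
          rw [h6, neg_one_smul, map_neg, h9'] at h10'
          exact htwo v h10'.symm
        rw [h8, finrank_bot, add_zero]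
        exact Submodule.finrank_mono (sup_le inf_le_left inf_le_left)
      have h8 : ∑ n : N, finrank k ↥(E i ⊓ fixSp (ρ (h * (n * m : N)) * ρ (h * (n * m : N)))) =
          ∑ n : N, finrank k ↥(E i ⊓ fixSp (ρ (h * n) * ρ (h * n))) :=
        Equiv.sum_comp (Equiv.mulRight m) fun n : N => finrank k ↥(E i ⊓ fixSp (ρ (h * n) * ρ (h * n)))
      have h9 := Finset.sum_le_sum fun n (_ : n ∈ Finset.univ) => h7 n
      rw [Finset.sum_add_distrib, h8, Finset.sum_const, Finset.card_univ, smul_eq_mul] at h9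
      rw [← Finset.mul_sum]
      omega)
  obtain ⟨n, hn⟩ := exists_of_sum h4
  exact ⟨_, hn⟩

end Cfsg.Agent.FP3
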