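import Cfsg.Agent.FP3.Defs
import Cfsg.Agent.FP3.Aff.Two
import Cfsg.Agent.S0721

/-!
# S3519, the affine box from `Gen` and the existence of involutions (helper93)
-/

set_option autoImplicit false

namespace Cfsg.Agent.FP3

open Module

/-- non-abelian simple groups contain involutions (Feit–Thompson) -/
def HasInv : Prop := ∀ (T : Type) [Group T] [Finite T] [IsSimpleGroup T], ¬ IsMulCommutative T →
  ∃ x : T, x ≠ 1 ∧ x ^ 2 = 1

theorem perfect_of_simple {T : Type*} [Group T] [IsSimpleGroup T] (h : ¬ IsMulCommutative T) : commutator T = ⊤ := by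
  refine (IsSimpleGroup.eq_bot_or_eq_top_of_normal (commutator T) inferInstance).resolve_left fun h0 => h ?_
  rw [commutator_eq_bot_iff_center_eq_top] at h0
  exact ⟨⟨fun a b => Subgroup.mem_center_iff.1 (h0 ▸ Subgroup.mem_top b) a⟩⟩

theorem exists_minimal_normal' (H : Type*) [Group H] [Finite H] [Nontrivial H] :
    ∃ N : Subgroup H, N.Normal ∧ N ≠ ⊥ ∧ ∀ M : Subgroup H, M.Normal → M ≤ N → M = ⊥ ∨ M = N := by
  obtain ⟨N, hN, hmin⟩ := (Set.toFinite {N : Subgroup H | N.Normal ∧ N ≠ ⊥}).exists_minimal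
    ⟨⊤, inferInstance, top_ne_bot⟩
  refine ⟨N, hN.1, hN.2, fun M hM hle => ?_⟩
  by_cases h : M = ⊥
  · exact Or.inl h
  · exact Or.inr (le_antisymm hle (hmin ⟨hM, h⟩ hle))

/-- the linear form of the affine box, over any field -/
theorem aff_lin (hG : Gen) (hI : HasInv) {k V H : Type*} [Field k] [AddCommGroup V] [Module k V]
    [FiniteDimensional k V] [Group H] [Finite H] [Nontrivial H] (ρ : Representation k H V)
    (hinj : ∀ h, ρ h = 1 → h = 1) (hirr : Irr ρ) : ∃ h : H, 3 * dfx (ρ h) ≤ finrank k V := by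
  classical
  obtain ⟨N, hN, hN0, hmin⟩ := exists_minimal_normal' H
  obtain ⟨T, _, m, hT, hm, ⟨e⟩⟩ := Cfsg.Agent.S0721.result N hN0 hmin
  have hfin : Finite T := Finite.of_surjective (fun n : N => e n ⟨0, hm⟩) fun t =>
    ⟨e.symm fun _ => t, by simp⟩
  let φ : (Fin m → T) →* H := N.subtype.comp e.symm.toMonoidHom
  have hφ : φ.range = N := by
    ext h
    constructor
    · rintro ⟨a, rfl⟩
      exact (e.symm a).2
    · intro hh
      exact ⟨e ⟨h, hh⟩, by simp [φ]⟩
  have hφn : φ.range.Normal := hφ ▸ hN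
  have hne : ∃ a, ρ (φ a) ≠ 1 := by
    obtain ⟨⟨n, hn⟩, hn1⟩ := (Subgroup.ne_bot_iff_exists_ne_one.1 hN0)
    rw [← hφ] at hn
    obtain ⟨a, rfl⟩ := hn
    exact ⟨a, fun h => hn1 (Subtype.ext (hinj _ h))⟩
  by_cases hc : IsMulCommutative T
  · have hp : (Nat.card T).Prime := Group.is_simple_iff_prime_card.1 hT
    have hpow : ∀ a : Fin m → T, a ^ Nat.card T = 1 := fun a => funext fun i => pow_card_eq_one'
    rcases hp.eq_two_or_odd' with h2 | ⟨r, hr⟩
    · obtain ⟨a, ha⟩ := hne
      refine aff_two ρ hirr φ.range ⟨_, ⟨a, rfl⟩, ha⟩ ?_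
      rintro _ ⟨b, rfl⟩
      rw [← map_mul, ← pow_two, ← h2, hpow, map_one]
    · have := Fintype.ofFinite T
      refine glue_hom ρ hirr φ hne (X := Fin m → T) id fun W σ h1 h2 => ?_
      refine irr_ab (fun a b => funext fun i => hc.1.1 _ _) (fun g => ⟨r + 1, ?_⟩) σ h1 h2
      rw [← pow_two, ← pow_mul, show 2 * (r + 1) = 2 * r + 1 + 1 by ring, pow_succ, ← hr, hpow, one_mul]
  · obtain ⟨x, hx1, hx⟩ := hI T hc
    obtain ⟨y, hxy⟩ := hG T hc x hx1
    exact glue_hom ρ hirr φ hne (X := Fin m → Bool) (fun f i => if f i then y else x * y) fun W σ h1 h2 =>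
      irr_prod (perfect_of_simple hc) hxy hx σ h1 h2

theorem exists_rep {V H : Type*} [CommGroup V] [Group H] [MulDistribMulAction H V] (p : ℕ) [Fact p.Prime]
    [Module (ZMod p) (Additive V)] : ∃ ρ : Representation (ZMod p) H (Additive V),
      ∀ (h : H) (v : V), ρ h (Additive.ofMul v) = Additive.ofMul (h • v) :=
  ⟨{ toFun := fun h => (MonoidHom.toAdditive (MulDistribMulAction.toMonoidHom V h)).toZModLinearMap p
     map_one' := LinearMap.ext fun v => congrArg Additive.ofMul (one_smul H v.toMul)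
     map_mul' := fun a b => LinearMap.ext fun v => congrArg Additive.ofMul (mul_smul a b v.toMul) }, fun _ _ => rfl⟩

theorem aff_mod (hG : Gen) (hI : HasInv) {V H : Type*} [CommGroup V] [Finite V] [Group H] [Finite H] [Nontrivial H]
    [MulDistribMulAction H V] [FaithfulSMul H V] (p : ℕ) [Fact p.Prime] [Module (ZMod p) (Additive V)]
    (hirr : ∀ W : Subgroup V, (∀ (h : H), ∀ w ∈ W, h • w ∈ W) → W = ⊥ ∨ W = ⊤) :
    ∃ h : H, Nat.card (MulAction.fixedBy V h) ^ 3 ≤ Nat.card V := by
  obtain ⟨ρ, hρ⟩ := exists_rep (V := V) (H := H) p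
  have hirr' : Irr ρ := by
    intro U hU
    rcases hirr (AddSubgroup.toSubgroup' U.toAddSubgroup) (fun h w hw => by
      have h1 := hU h (Additive.ofMul w) hw
      rw [hρ] at h1
      exact h1) with h | h
    · left
      rw [eq_bot_iff]
      intro v hv
      have h1 : v.toMul ∈ AddSubgroup.toSubgroup' U.toAddSubgroup := hv
      rw [h, Subgroup.mem_bot] at h1
      exact h1
    · right
      rw [eq_top_iff]
      intro v _
      have h1 : v.toMul ∈ AddSubgroup.toSubgroup' U.toAddSubgroup := h ▸ Subgroup.mem_top _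
      exact h1
  obtain ⟨h, hh⟩ := aff_lin hG hI ρ (fun h h1 => eq_of_smul_eq_smul fun v : V => by
    have h2 := hρ h v
    rw [h1, Module.End.one_apply] at h2
    rw [one_smul]
    exact (Additive.ofMul.injective h2).symm) hirr'
  refine ⟨h, ?_⟩
  have h1 : Nat.card (MulAction.fixedBy V h) = Nat.card (fixSp (ρ h)) :=
    Nat.card_congr (Equiv.subtypeEquiv (p := fun v => v ∈ MulAction.fixedBy V h) (q := fun v => v ∈ fixSp (ρ h))
      Additive.ofMul fun v => by
        rw [MulAction.mem_fixedBy, mem_fixSp, hρ, Additive.ofMul.injective.eq_iff])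
  have h2 : Nat.card V = Nat.card (Additive V) := Nat.card_congr Additive.ofMul
  rw [h1, h2, Module.natCard_eq_pow_finrank (K := ZMod p), Module.natCard_eq_pow_finrank (K := ZMod p) (V := Additive V),
    ← pow_mul]
  exact Nat.pow_le_pow_right Nat.card_pos (by rw [mul_comm]; exact hh)

/-- the affine box -/
theorem aff_of (hG : Gen) (hI : HasInv) : Aff := by
  intro V H _ _ _ _ _ _ _ hirr
  have hV : Nontrivial V := by
    by_contra h
    rw [not_nontrivial_iff_subsingleton] at h
    obtain ⟨a, ha⟩ := exists_ne (1 : H)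
    exact ha (eq_of_smul_eq_smul fun v : V => Subsingleton.elim _ _)
  obtain ⟨p, hp, hd⟩ := Nat.exists_prime_and_dvd (Finite.one_lt_card (α := V)).ne'
  have := Fact.mk hp
  obtain ⟨v₀, hv₀⟩ := exists_prime_orderOf_dvd_card' p hd
  have hpow : ∀ v : V, v ^ p = 1 := by
    rcases hirr (powMonoidHom p : V →* V).ker (fun h w hw => by
      rw [MonoidHom.mem_ker, powMonoidHom_apply] at hw ⊢
      rw [← smul_pow', hw, smul_one]) with h | h
    · have h1 : v₀ ∈ (powMonoidHom p : V →* V).ker := by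
        rw [MonoidHom.mem_ker, powMonoidHom_apply, ← hv₀, pow_orderOf_eq_one]
      rw [h, Subgroup.mem_bot] at h1
      rw [h1, orderOf_one] at hv₀
      exact absurd hv₀.symm hp.ne_one
    · intro v
      have h1 : v ∈ (powMonoidHom p : V →* V).ker := h ▸ Subgroup.mem_top v
      rwa [MonoidHom.mem_ker, powMonoidHom_apply] at h1
  exact @aff_mod hG hI V H _ _ _ _ _ _ _ p _ (AddCommGroup.zmodModule fun v => by
    rw [← ofMul_toMul v, ← ofMul_pow, hpow, ofMul_one]) hirr

end Cfsg.Agent.FP3
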